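import Groth.Agent.H20Comod.Stability
import Groth.Agent.H20Comod.Slices
import Groth.Agent.H19Grp.HopfReduced
import Groth.Prelude.Def_ComodSub
import Mathlib.RingTheory.ZariskisMainTheorem
import Mathlib.AlgebraicGeometry.Morphisms.OpenImmersion

/-!
Equivariant Zariski main theorem for affine schemes with a group action.
-/

set_option autoImplicit false
set_option linter.style.haveILetI false

universe u

open CategoryTheory TensorProduct HopfRep AlgebraicGeometry Groth.Agent.H20Comod

namespace Groth.Agent.H20ZMT

noncomputable section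

variable {k : Type u} [Field k] {A : Type u} [CommRing A] [HopfAlgebra k A]
  {R : Type u} [CommRing R] [Algebra k R] [HopfRep.Comod k A R] [GLin.IsCoactAlg k A R]

/-- A submodule stable under all rational points is a subcomodule. -/
theorem isSubcomod_of_points [IsAlgClosed k] [_root_.IsReduced A] [Algebra.FiniteType k A] (W : Submodule k R)
    (h : ∀ g : A →ₐ[k] k, ∀ x ∈ W, actL g.toLinearMap x ∈ W) : IsSubcomod (k := k) (A := A) W := by
  rw [isSubcomod_iff_forall_actL]
  intro x hx φ
  rw [← Submodule.Quotient.mk_eq_zero]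
  have ht : W.mkQ.rTensor A (Comod.coact (k := k) (A := A) x) = 0 := by
    refine eq_zero_of_forall_sliceL fun l => H20Comod.Stability.eq_zero_of_forall_points (k := k) fun g => ?_
    have hc : ∀ z : R ⊗[k] A, g (sliceL l (W.mkQ.rTensor A z)) = l (W.mkQ (sliceR g.toLinearMap z)) := by
      intro z
      induction z using TensorProduct.induction_on with
      | zero => simp
      | tmul r a => simp [mul_comm]
      | add z z' hz hz' => simp only [map_add, hz, hz']
    rw [hc, ← actL_apply, show W.mkQ (actL g.toLinearMap x) = 0 from (Submodule.Quotient.mk_eq_zero W).2 (h g x hx),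
      map_zero]
  rw [← Submodule.mkQ_apply, actL_apply, ← sliceR_rTensor, ht, map_zero]

variable {S : Type u} [CommRing S] [Algebra k S] [HopfRep.Comod k A S] [GLin.IsCoactAlg k A S]
  [Algebra S R] [IsScalarTower k S R]

/-- The integral closure of an equivariant algebra is stable. -/
theorem isSubcomod_integralClosure [IsAlgClosed k] [_root_.IsReduced A] [Algebra.FiniteType k A]
    (hf : Hoch.IsComodHom A (IsScalarTower.toAlgHom k S R).toLinearMap) :
    IsSubcomod (k := k) (A := A) ((Subalgebra.toSubmodule (integralClosure S R)).restrictScalars k) := by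
  refine isSubcomod_of_points _ fun g x hx => ?_
  have hx' : IsIntegral S x := hx
  have hcomp : (algebraMap S R).comp (H20Comod.OrbitPrimes.actAlg g : S →ₐ[k] S).toRingHom =
      (H20Comod.OrbitPrimes.actAlg g : R →ₐ[k] R).toRingHom.comp (algebraMap S R) := by
    refine RingHom.ext fun s => ?_
    show algebraMap S R (H20Comod.OrbitPrimes.actAlg g s) = H20Comod.OrbitPrimes.actAlg g (algebraMap S R s)
    rw [H20Comod.OrbitPrimes.actAlg_apply, H20Comod.OrbitPrimes.actAlg_apply]
    exact actL_natural _ hf g.toLinearMap s
  have h := hx'.map_of_comp_eq _ _ hcomp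
  rw [AlgHom.toRingHom_eq_coe, RingHom.coe_coe, H20Comod.OrbitPrimes.actAlg_apply] at h
  exact h

omit [Algebra S R] [IsScalarTower k S R] [HopfRep.Comod k A S] [GLin.IsCoactAlg k A S] in
/-- A stable subalgebra carries a coaction. -/
theorem exists_comod_subalgebra (B : Subalgebra k R)
    (hB : IsSubcomod (k := k) (A := A) (Subalgebra.toSubmodule B)) :
    ∃ (c : HopfRep.Comod k A B), @GLin.IsCoactAlg k _ A _ _ B _ _ c ∧
      ∀ b : B, Comod.coact (k := k) (A := A) (b : R) =
        Algebra.TensorProduct.map B.val (AlgHom.id k A) (c.coact b) := by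
  let c : HopfRep.Comod k A B := ComodSub.Comod.restr inferInstance (Subalgebra.toSubmodule B) hB
  have hspec : ∀ b : B, Comod.coact (k := k) (A := A) (b : R) =
      Algebra.TensorProduct.map B.val (AlgHom.id k A) (c.coact b) :=
    fun b => (ComodSub.restr_coact_coe (inferInstance : HopfRep.Comod k A R) (Subalgebra.toSubmodule B) hB b).symm
  have hinj : Function.Injective (Algebra.TensorProduct.map B.val (AlgHom.id k A)) :=
    Module.Flat.rTensor_preserves_injective_linearMap (M := A) B.val.toLinearMap Subtype.val_injective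
  refine ⟨c, ⟨hinj ?_, fun b b' => hinj ?_⟩, hspec⟩
  · rw [← hspec, map_one]
    exact GLin.IsCoactAlg.coact_one
  · rw [← hspec, map_mul, ← hspec, ← hspec]
    exact GLin.IsCoactAlg.coact_mul _ _

omit [HopfRep.Comod k A S] [GLin.IsCoactAlg k A S] [HopfRep.Comod k A R] [GLin.IsCoactAlg k A R] in
/-- An algebra satisfying the main property everywhere is open in its model. -/
theorem isOpenImmersion_of_cover {B : Type u} [CommRing B] [Algebra B R]
    (hinj : Function.Injective (algebraMap B R))
    (h : ∀ p : Ideal R, p.IsPrime → ∃ r : B, algebraMap B R r ∉ p ∧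
      ∀ x : R, ∃ (m : ℕ) (b : B), algebraMap B R b = algebraMap B R r ^ m * x) :
    IsOpenImmersion (Spec.map (CommRingCat.ofHom (algebraMap B R))) := by
  choose r hr hx using fun p : PrimeSpectrum R => h p.asIdeal p.isPrime
  let O : PrimeSpectrum R → (Spec (CommRingCat.of R)).Opens := fun p => PrimeSpectrum.basicOpen (algebraMap B R (r p))
  let f := Spec.map (CommRingCat.ofHom (algebraMap B R))
  let J : PrimeSpectrum R → CommRingCat.{u} := fun p => CommRingCat.of (Localization.Away (algebraMap B R (r p)))
  let j : ∀ p, Spec (J p) ⟶ Spec (CommRingCat.of R) := fun p =>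
    Spec.map (CommRingCat.ofHom (algebraMap R (Localization.Away (algebraMap B R (r p)))))
  have hloc : ∀ p, IsOpenImmersion (j p ≫ f) := by
    intro p
    rw [← Spec.map_comp, ← CommRingCat.ofHom_comp]
    letI : Algebra B (Localization.Away (algebraMap B R (r p))) :=
      ((algebraMap R (Localization.Away (algebraMap B R (r p)))).comp (algebraMap B R)).toAlgebra
    haveI : IsLocalization.Away (r p) (Localization.Away (algebraMap B R (r p))) := by
      refine (isLocalization_iff _ _).2 ⟨?_, fun z => ?_, fun {x y} hxy => ?_⟩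
      · rintro ⟨_, n, rfl⟩
        show IsUnit (algebraMap R _ (algebraMap B R (r p ^ n)))
        rw [map_pow, map_pow]
        exact (IsLocalization.Away.algebraMap_isUnit _).pow n
      · obtain ⟨⟨x, ⟨_, n, rfl⟩⟩, hz⟩ := IsLocalization.surj (Submonoid.powers (algebraMap B R (r p))) z
        obtain ⟨m, b, hb⟩ := hx p x
        refine ⟨⟨b, ⟨_, m + n, rfl⟩⟩, ?_⟩
        show z * algebraMap R _ (algebraMap B R (r p ^ (m + n))) = algebraMap R _ (algebraMap B R b)
        rw [hb, map_pow, map_mul, map_pow, map_pow, pow_add]
        simp only [map_pow] at hz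
        rw [← hz]
        ring
      · obtain ⟨⟨_, n, rfl⟩, hn⟩ := (IsLocalization.eq_iff_exists (Submonoid.powers (algebraMap B R (r p))) _).1 hxy
        refine ⟨⟨_, n, rfl⟩, hinj ?_⟩
        simpa [map_mul, map_pow] using hn
    exact IsOpenImmersion.of_isLocalization (r p)
  have hstalk : ∀ x : PrimeSpectrum R, ∃ (p : PrimeSpectrum R) (y : Spec (J p)), j p y = x := fun x =>
    ⟨x, (PrimeSpectrum.localization_away_comap_range (Localization.Away (algebraMap B R (r x))) _).ge (hr x)⟩
  rw [IsOpenImmersion.iff_isIso_stalkMap]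
  refine ⟨?_, fun x => ?_⟩
  · refine Topology.IsOpenEmbedding.of_continuous_injective_isOpenMap f.continuous (fun x x' hxx' => ?_) ?_
    · have hmem : x' ∈ PrimeSpectrum.basicOpen (algebraMap B R (r x)) := fun hm => hr x (by
        have hmem' : r x ∈ (f x').asIdeal := hm
        rw [← hxx'] at hmem'
        exact hmem')
      obtain ⟨y, hy⟩ := (PrimeSpectrum.localization_away_comap_range (Localization.Away (algebraMap B R (r x)))
        (algebraMap B R (r x))).ge (hr x)
      obtain ⟨y', hy'⟩ := (PrimeSpectrum.localization_away_comap_range (Localization.Away (algebraMap B R (r x)))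
        (algebraMap B R (r x))).ge hmem
      haveI := hloc x
      have he : (j x ≫ f) y = (j x ≫ f) y' := by
        show f (j x y) = f (j x y')
        rw [show j x y = x from hy, show j x y' = x' from hy', hxx']
      rw [← hy, ← hy', (j x ≫ f).isOpenEmbedding.injective he]
    · intro U hU
      refine isOpen_iff_forall_mem_open.2 ?_
      rintro _ ⟨x, hxU, rfl⟩
      obtain ⟨p, y, hy⟩ := hstalk x
      haveI := hloc p
      refine ⟨(j p ≫ f) '' (j p ⁻¹' U), ?_, (j p ≫ f).isOpenEmbedding.isOpenMap _ (hU.preimage (j p).continuous),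
        ⟨y, show j p y ∈ U from hy ▸ hxU, show f (j p y) = f x by rw [hy]⟩⟩
      rintro _ ⟨z, hz, rfl⟩
      exact ⟨j p z, hz, rfl⟩
  · obtain ⟨p, y, rfl⟩ := hstalk x
    haveI := hloc p
    haveI : IsOpenImmersion (j p) := IsOpenImmersion.of_isLocalization (algebraMap B R (r p))
    have h1 : IsIso (f.stalkMap (j p y) ≫ (j p).stalkMap y) := by
      rw [← Scheme.Hom.stalkMap_comp]
      exact (IsOpenImmersion.iff_isIso_stalkMap.1 (hloc p)).2 y
    exact IsIso.of_isIso_comp_right (f.stalkMap (j p y)) ((j p).stalkMap y)

end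

end Groth.Agent.H20ZMT
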